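import Mathlib
import Cfsg.Agent.Helper2.Stb.UnivMain
import Cfsg.Prelude.Def_ChevB2

set_option autoImplicit false
set_option linter.unusedSectionVars false
set_option linter.unusedVariables false

/-! S2103 (Schur multiplier of `F₄(q)`, `q ≥ 3`): common definitions for the pieces. -/

namespace Cfsg.Agent.S2103P

open Cfsg.Lie Cfsg.Agent.Helper6 Cfsg.Agent.Helper2.StPerf Cfsg.Agent.Helper2.Stb

/-- the table check for an embedding of root data with signs: `ρ` maps the roots of `D'` to roots
of `D`, `ε a = ±1`, and the commutator formula of `D` for `(ρ a, ρ b)` is the image of the one of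
`D'` for `(a, b)` twisted by the signs -/
def embChk (D' D : ChevalleyDatum) (ρ : ℕ → ℕ) (ε : ℕ → ℤ) : Bool :=
  allLt D'.nroots fun a => decide (ρ a < D.nroots) && (decide (ε a = 1) || decide (ε a = -1)) &&
    allLt D'.nroots fun b => decide (b = a) || decide (b = D'.neg a) ||
      (decide (ρ b ≠ ρ a) && decide (ρ b ≠ D.neg (ρ a)) &&
        decide (D.commTerms (ρ a) (ρ b) = (D'.commTerms a b).map fun c =>
          (ρ c.1, ε c.1 * c.2.1 * ε a ^ c.2.2.1 * ε b ^ c.2.2.2, c.2.2.1, c.2.2.2)))

/-- the root elements of the embedded system -/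
def embX {K : Type*} [Field K] {M : Type*} (X : ℕ → K → M) (ρ : ℕ → ℕ) (ε : ℕ → ℤ) :
    ℕ → K → M := fun a t => X (ρ a) ((ε a : K) * t)

/-- single-term commutator formulas with exponents `(1, 1)`, in the format of the simply-laced
tables (anything else becomes a two-element list, which is neither "commuting" nor "a sum") -/
def ceOf (l : List (ℕ × ℤ × ℕ × ℕ)) : List (ℕ × ℤ) :=
  match l with
  | [] => []
  | [c] => if c.2.2.1 = 1 ∧ c.2.2.2 = 1 then [(c.1, c.2.1)] else [(0, 0), (0, 0)]
  | _ => [(0, 0), (0, 0)]

/-- the table of type `F₄` in the simply-laced format: only the pairs of roots whose commutator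
formula has at most one term, with exponents `(1, 1)`, are visible -/
def ceF4 (r s : ℕ) : List (ℕ × ℤ) := ceOf (chevF4.commTerms r s)

/-- the negative of a root of `F₄` -/
def ngF4 (r : ℕ) : ℕ := 47 - r

end Cfsg.Agent.S2103P
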