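import Mathlib
import Cfsg.Agent.Helper2.Stb.UnivMain

set_option autoImplicit false
set_option linter.unusedSectionVars false
set_option linter.unusedSimpArgs false
set_option linter.unusedVariables false

/-! Steinberg's theorem on central extensions with weaker hypotheses on the field: the commutation
of the lifts of commuting root elements is a hypothesis, and the torus witnesses have value `1` on
the second root, so that any scalar different from `0` and `1` can be used. -/

namespace Cfsg.Agent.S2103P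

open Cfsg.Lie Cfsg.Agent.Helper6 Cfsg.Agent.Helper2.StPerf Cfsg.Agent.Helper2.Stb
open scoped commutatorElement

variable {D : ChevalleyDatum} {F : Type*} [Field F] {M : Type*} [Group M]

section main

variable {X : ℕ → F → M} (h : R12 D X) (hD : IsTabulated D) (π : M →* GL D.Idx F)
  (hπ : ∀ r < D.nroots, ∀ t : F, π (X r t) = xU (basicOK_of_tabulated hD) r t)
  (hgen : Subgroup.closure {g | ∃ r < D.nroots, ∃ t : F, g = X r t} = ⊤)
  {E : Type*} [Group E] (ψ : E →* M) (hψ : Function.Surjective ψ)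
  (hc : ψ.ker ≤ Subgroup.center E) (hperf : commutator M = ⊤)
  (tg : ℕ → M) (tχ : ℕ → ℕ → F)
  (hT : ∀ r < D.nroots, IsTor X D (tg r) (tχ r) ∧ tχ r r ≠ 1)
  (hA : ∀ r < D.nroots, ∀ (t u : F) (e1 e2 : E), ψ e1 = X r t → ψ e2 = X r u →
    e1 * e2 = e2 * e1)
include h hπ hgen hψ hc hperf hT hA

local notation "Y" => liftY ψ hψ X tg tχ

/-- the canonical lifts satisfy the relations (R1) and (R2), when the lifts of commuting root
elements commute -/
theorem r12_liftY'
    (hCC : ∀ r < D.nroots, ∀ s < D.nroots, s ≠ r → s ≠ D.neg r → D.commTerms r s = [] →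
      ∀ (t u : F) (e1 e2 : E), ψ e1 = X r t → ψ e2 = X s u → e1 * e2 = e2 * e1)
    (hP : ∀ r < D.nroots, ∀ s < D.nroots, s ≠ r → s ≠ D.neg r → D.commTerms r s ≠ [] →
      PairOK (F := F) X D (basicOK_of_tabulated hD) r s) : R12 D Y := by
  have hadd : ∀ r < D.nroots, ∀ t u : F, Y r t * Y r u = Y r (t + u) := fun r hr t u =>
    liftY_add h ψ hψ hc tg tχ hT hA hr t u
  have main : ∀ n : ℕ, ∀ r < D.nroots, ∀ s < D.nroots, s ≠ r → s ≠ D.neg r →
      (D.commTerms r s).length = n → ∀ t u : F,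
      (Y s u)⁻¹ * (Y r t)⁻¹ * Y s u * Y r t = wordX Y (D.commWord F r s t u) := by
    intro n
    induction n using Nat.strong_induction_on with
    | _ n ih =>
      intro r hr s hs h1 h2 hlen t u
      by_cases hnil : D.commTerms r s = []
      · have hcm := hCC r hr s hs h1 h2 hnil t u (Y r t) (Y s u)
          (map_liftY h ψ hψ hc tg tχ hT hr t) (map_liftY h ψ hψ hc tg tχ hT hs u)
        unfold ChevalleyDatum.commWord
        rw [hnil, List.map_nil, wordX_nil]
        calc (Y s u)⁻¹ * (Y r t)⁻¹ * Y s u * Y r t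
            = (Y s u)⁻¹ * (Y r t)⁻¹ * (Y s u * Y r t) := by group
          _ = 1 := by rw [← hcm]; group
      · have hPO := hP r hr s hs h1 h2 hnil
        obtain ⟨g, χ, hg, e1, e2, e3⟩ := hPO.tor
        have hG := hPO.good
        have hY : R12On D Y
            (fun a b => (D.commTerms a b).length < (D.commTerms r s).length) :=
          ⟨hadd, fun a ha b hb hb1 hb2 hlt t u =>
            ih _ (hlen ▸ hlt) a ha b hb hb1 hb2 rfl t u⟩
        have hterms : ∀ c ∈ D.commTerms r s, c.1 < D.nroots := fun c hc' =>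
          hG.lt _ (List.mem_cons_of_mem _ (List.mem_map.2 ⟨c, hc', rfl⟩))
        exact r2_of_additive h hD π hπ hgen ψ hψ hc hperf tg tχ hT hA hr hs h1 h2 hterms
          (hadd_of_good h hD π hπ hgen ψ hψ hc hperf tg tχ hT hA hY hr hs h1 h2 hG)
          hg e1 e2 e3 t u
  exact ⟨hadd, fun r hr s hs h1 h2 t u => main _ r hr s hs h1 h2 rfl t u⟩

end main

/-- for each pair of independent roots, outside the exceptional set `bad`, a cocharacter trivial on
the first, with value `1` on the second, and compatible with the commutator formula -/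
def witP1Chk (D : ChevalleyDatum) (wP : ℕ → ℕ → List ℤ) (bad : ℕ → ℕ → Bool) : Bool :=
  allLt D.nroots fun r => allLt D.nroots fun s => decide (s = r) || decide (s = D.neg r) ||
    (bad r s && (D.commTerms r s).isEmpty) ||
    (decide (chi D (wP r s) r = 0) && decide (chi D (wP r s) s = 1) &&
      (D.commTerms r s).all fun c => decide (chi D (wP r s) c.1 = (c.2.2.2 : ℤ)))

section tabs

variable {X : ℕ → F → M} (h : R12 D X) (hD : IsTabulated D) (π : M →* GL D.Idx F)
  (hπ : ∀ r < D.nroots, ∀ t : F, π (X r t) = xU (basicOK_of_tabulated hD) r t)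
include h hπ

theorem exists_tor_of_witP1 {wP : ℕ → ℕ → List ℤ} {bad : ℕ → ℕ → Bool}
    (hchk : witP1Chk D wP bad = true) {v : F} (hv0 : v ≠ 0) (hv1 : v ≠ 1) {r s : ℕ}
    (hr : r < D.nroots) (hs : s < D.nroots) (h1 : s ≠ r) (h2 : s ≠ D.neg r)
    (hb : ¬ (bad r s = true ∧ D.commTerms r s = [])) :
    ∃ (g : M) (χ : ℕ → F), IsTor X D g χ ∧ χ r = 1 ∧ χ s ≠ 1 ∧
      ∀ c ∈ D.commTerms r s, χ c.1 = χ s ^ c.2.2.2 := by
  simp only [witP1Chk, allLt_iff, Bool.or_eq_true, Bool.and_eq_true, decide_eq_true_eq,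
    List.all_eq_true, List.isEmpty_iff] at hchk
  rcases hchk r hr s hs with ((e | e) | e) | ⟨⟨c1, c2⟩, c4⟩
  · exact absurd e h1
  · exact absurd e h2
  · exact absurd e hb
  · refine ⟨torEl X D (wP r s) v, fun a => v ^ chi D (wP r s) a,
      isTor_torEl h hD π hπ _ hv0, ?_, ?_, ?_⟩
    · simp only [c1, zpow_zero]
    · simp only [c2, zpow_one]
      exact hv1
    · intro c hc'
      simp only [c4 c hc', c2, zpow_one, zpow_natCast]

end tabs

/-- every central extension of the group presented by (R1), (R2) splits, given the table checks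
and the commutation of the lifts in the cases not covered by the torus -/
theorem exists_section_gen {K : Type*} [Field K] {v₀ : K} (hv0 : v₀ ≠ 0) (hv1 : v₀ ≠ 1)
    (hD : IsTabulated D)
    {wA : ℕ → List ℤ} {wP : ℕ → ℕ → List ℤ} {bad : ℕ → ℕ → Bool} {ws : List (List ℕ)}
    (hA : witAChk D wA = true) (hP : witP1Chk D wP bad = true) (hG : pairsChk D ws = true)
    {E : Type*} [Group E] (ψ : E →* D.SteinbergCover K) (hψ : Function.Surjective ψ)
    (hc : ψ.ker ≤ Subgroup.center E)
    (hAA : ∀ r < D.nroots, ∀ (t u : K) (e1 e2 : E),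
      ψ e1 = pX D (D.steinbergRelsAB K) r t → ψ e2 = pX D (D.steinbergRelsAB K) r u →
      e1 * e2 = e2 * e1)
    (hBad : ∀ r < D.nroots, ∀ s < D.nroots, bad r s = true → D.commTerms r s = [] →
      ∀ (t u : K) (e1 e2 : E),
      ψ e1 = pX D (D.steinbergRelsAB K) r t → ψ e2 = pX D (D.steinbergRelsAB K) s u →
      e1 * e2 = e2 * e1) :
    ∃ σ : D.SteinbergCover K →* E, ψ.comp σ = MonoidHom.id _ := by
  have hsub : D.steinbergRelsAB K ⊆ D.steinbergRelsAB K := subset_rfl
  have hθ : ∀ (r : ℕ) (t : K), r < D.nroots →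
      ((thetaAB hD K (pX D (D.steinbergRelsAB K) r t) : GL D.Idx K) : Matrix D.Idx D.Idx K) =
        D.x K r t := fun r t hr => thetaAB_apply hD r t hr
  obtain ⟨X, hX⟩ : ∃ X : ℕ → K → D.SteinbergCover K, X = pX D (D.steinbergRelsAB K) := ⟨_, rfl⟩
  rw [← hX] at hAA hBad
  have h : R12 D X := by rw [hX]; exact r12_pX hsub
  obtain ⟨π, hπdef⟩ : ∃ π : D.SteinbergCover K →* GL D.Idx K,
      π = (D.group K).subtype.comp (thetaAB hD K) := ⟨_, rfl⟩
  have hπ : ∀ r < D.nroots, ∀ t : K, π (X r t) = xU (basicOK_of_tabulated hD) r t := by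
    rw [hX, hπdef]; exact hπ_of hD hsub _ hθ
  have hgen : Subgroup.closure {g | ∃ r < D.nroots, ∃ t : K, g = X r t} = ⊤ := by
    rw [hX]; exact gen_pX
  have hperf : commutator (D.SteinbergCover K) = ⊤ := by
    have hall := inDer_of_tabulated hD h (fun _ => ⟨v₀, hv0, hv1⟩)
    rw [eq_top_iff, ← hgen, Subgroup.closure_le]
    rintro _ ⟨r, hr, t, rfl⟩
    exact hall r hr t
  obtain ⟨tg, htg⟩ : ∃ tg : ℕ → D.SteinbergCover K, tg = fun r => torEl X D (wA r) v₀ :=
    ⟨_, rfl⟩
  obtain ⟨tχ, htχ⟩ : ∃ tχ : ℕ → ℕ → K, tχ = fun r a => v₀ ^ chi D (wA r) a := ⟨_, rfl⟩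
  have hA' := hA
  simp only [witAChk, allLt_iff, decide_eq_true_eq] at hA'
  have hT : ∀ r < D.nroots, IsTor X D (tg r) (tχ r) ∧ tχ r r ≠ 1 := by
    intro r hr
    rw [htg, htχ]
    refine ⟨isTor_torEl h hD π hπ _ hv0, ?_⟩
    simp only [hA' r hr, zpow_one]
    exact hv1
  have hCC : ∀ r < D.nroots, ∀ s < D.nroots, s ≠ r → s ≠ D.neg r → D.commTerms r s = [] →
      ∀ (t u : K) (e1 e2 : E), ψ e1 = X r t → ψ e2 = X s u → e1 * e2 = e2 * e1 := by
    intro r hr s hs h1 h2 hnil t u e1 e2 he1 he2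
    by_cases hb : bad r s = true
    · exact hBad r hr s hs hb hnil t u e1 e2 he1 he2
    · obtain ⟨g, χ, hg, c1, c2, _⟩ := exists_tor_of_witP1 h hD π hπ hP hv0 hv1 hr hs h1 h2
        (fun hh => hb hh.1)
      have hcommX : ∀ t u : K, X r t * X s u = X s u * X r t := by
        intro t u
        have := h.comm r hr s hs h1 h2 t u
        unfold ChevalleyDatum.commWord at this
        rw [hnil, List.map_nil, wordX_nil] at this
        calc X r t * X s u = X s u * X r t * ((X s u)⁻¹ * (X r t)⁻¹ * X s u * X r t)⁻¹ := by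
              group
          _ = X s u * X r t := by rw [this, inv_one, mul_one]
      exact lifts_commute_of_tor h ψ hψ hc hr hs hcommX hg c1 c2 t u e1 e2 he1 he2
  have hPO : ∀ r < D.nroots, ∀ s < D.nroots, s ≠ r → s ≠ D.neg r → D.commTerms r s ≠ [] →
      PairOK (F := K) X D (basicOK_of_tabulated hD) r s := by
    intro r hr s hs h1 h2 hne
    refine ⟨?_, exists_tor_of_witP1 h hD π hπ hP hv0 hv1 hr hs h1 h2 (fun hh => hne hh.2)⟩
    have hG' := hG
    simp only [pairsChk, allLt_iff, Bool.or_eq_true, decide_eq_true_eq, List.isEmpty_iff] at hG'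
    rcases hG' r hr s hs with ((e | e) | e) | e
    · exact absurd e h1
    · exact absurd e h2
    · exact absurd e hne
    · exact goodLP_of_chk hD ws _ _ e
  have hR := r12_liftY' h hD π hπ hgen ψ hψ hc hperf tg tχ hT hAA hCC hPO
  obtain ⟨Y, hY⟩ : ∃ Y : ℕ → K → E, Y = liftY ψ hψ X tg tχ := ⟨_, rfl⟩
  rw [← hY] at hR
  have hrels : ∀ g ∈ D.steinbergRelsAB K,
      FreeGroup.lift (fun a : Fin D.nroots × K => Y a.1.val a.2) g = 1 := by
    intro g hg
    rcases hg with ⟨r, t₁, t₂, hr, rfl⟩ | ⟨r, s, t, u, hr, hs, h1, h2, rfl⟩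
    · rw [map_mul, map_mul, map_inv, lift_stX_gen Y hr, lift_stX_gen Y hr, lift_stX_gen Y hr,
        mul_inv_eq_one]
      exact hR.add r hr t₁ t₂
    · have hw : ∀ p ∈ D.commWord K r s t u, p.1 < D.nroots := by
        intro p hp
        obtain ⟨c, hc', e⟩ := commWord_fst_mem hp
        rw [e]
        have hne : D.commTerms r s ≠ [] := List.ne_nil_of_mem hc'
        exact (hPO r hr s hs h1 h2 hne).good.lt _
          (List.mem_cons_of_mem _ (List.mem_map.2 ⟨c, hc', rfl⟩))
      rw [map_mul, map_mul, map_mul, map_mul, map_inv, map_inv, map_inv, lift_stX_gen Y hr,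
        lift_stX_gen Y hs, lift_stWord_gen Y _ hw, mul_inv_eq_one]
      exact hR.comm r hr s hs h1 h2 t u
  refine ⟨PresentedGroup.toGroup hrels, ?_⟩
  apply PresentedGroup.ext
  intro a
  rw [MonoidHom.comp_apply, PresentedGroup.toGroup.of, MonoidHom.id_apply, hY,
    map_liftY h ψ hψ hc tg tχ hT a.1.isLt, hX]
  unfold pX ChevalleyDatum.stX
  rw [dif_pos a.1.isLt]
  rfl

end Cfsg.Agent.S2103P
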