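import Mathlib
import Cfsg.Agent.Helper2.S2103.Defs
import Cfsg.Agent.Helper2.Stein.Tab

set_option autoImplicit false
set_option linter.unusedSectionVars false
set_option linter.unusedVariables false

/-! S2103 piece LONG: the table of type `F₄` in the simply-laced format satisfies the commuting
and single-commutator relations. -/

namespace Cfsg.Agent.S2103P

open scoped commutatorElement
open Cfsg.Lie Cfsg.Agent.Helper6 Cfsg.Agent.Helper2.StPerf Cfsg.Agent.Helper2.Stb
open Cfsg.Agent.Helper2.Stein (CmT SmT smT_lt)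

namespace LONG

theorem ceOf_eq_nil {l : List (ℕ × ℤ × ℕ × ℕ)} (h : ceOf l = []) : l = [] := by
  unfold ceOf at h
  split at h
  · rfl
  · split_ifs at h
  · exact absurd h (by simp)

theorem ceOf_eq_singleton {l : List (ℕ × ℤ × ℕ × ℕ)} {k : ℕ} {C : ℤ} (h : ceOf l = [(k, C)]) :
    l = [(k, C, 1, 1)] := by
  unfold ceOf at h
  split at h
  · exact absurd h (by simp)
  · rename_i c
    split_ifs at h with hc
    · obtain ⟨c1, c2, c3, c4⟩ := c
      simp only at hc
      obtain ⟨rfl, rfl⟩ := hc
      simp only [List.cons.injEq, Prod.mk.injEq, and_true] at h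
      obtain ⟨rfl, rfl⟩ := h
      rfl
    · exact absurd h (by simp)
  · exact absurd h (by simp)

theorem neg_F4 : ∀ s < 48, chevF4.neg s = 47 - s := by decide +kernel

end LONG

open LONG

/-- piece LONG, part 1 -/
theorem hcm_F4 {K : Type*} [Field K] {M : Type*} [Group M] {X : ℕ → K → M} (h : R12 chevF4 X)
    {r s : ℕ} (hc : CmT 48 ceF4 ngF4 r s) (t u : K) : X r t * X s u = X s u * X r t := by
  obtain ⟨hr, hs, hc⟩ := hc
  have hr' : r < chevF4.nroots := hr
  have hs' : s < chevF4.nroots := hs
  rcases hc with rfl | ⟨h1, h2⟩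
  · rw [h.add r hr', h.add r hr', add_comm]
  · by_cases hrs : r = s
    · subst hrs
      rw [h.add r hr', h.add r hr', add_comm]
    · have hng : r ≠ chevF4.neg s := by rw [neg_F4 s hs]; exact h1
      have hcomm := h.comm s hs' r hr' hrs hng (-u) (-t)
      have hct : chevF4.commTerms s r = [] := ceOf_eq_nil h2
      unfold ChevalleyDatum.commWord at hcomm
      rw [hct, List.map_nil, wordX_nil, ← X_inv h hr', ← X_inv h hs', inv_inv, inv_inv] at hcomm
      have : X r t * X s u = (X r t * X s u * (X r t)⁻¹ * (X s u)⁻¹) * (X s u * X r t) := by group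
      rw [this, hcomm, one_mul]

/-- piece LONG, part 2 -/
theorem hsm_F4 {K : Type*} [Field K] {M : Type*} [Group M] {X : ℕ → K → M} (h : R12 chevF4 X)
    {r s k : ℕ} {ε : ℤ} (hs : SmT 48 ceF4 ngF4 r s k ε) (t u : K) :
    ⁅X r t, X s u⁆ = X k ((ε : K) * t * u) := by
  obtain ⟨hr, hs', hk, hε, hrs, hng, hce⟩ := smT_lt hs
  have hr' : r < chevF4.nroots := hr
  have hs'' : s < chevF4.nroots := hs'
  have hng' : r ≠ chevF4.neg s := by rw [neg_F4 s hs']; exact hng
  have hcomm := h.comm s hs'' r hr' hrs hng' (-u) (-t)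
  have hct : chevF4.commTerms s r = [(k, -ε, 1, 1)] := ceOf_eq_singleton hce
  unfold ChevalleyDatum.commWord at hcomm
  rw [hct, List.map_cons, List.map_nil, wordX_cons, wordX_nil, mul_one, ← X_inv h hr',
    ← X_inv h hs'', inv_inv, inv_inv] at hcomm
  rw [commutatorElement_def, hcomm]
  congr 1
  push_cast
  ring

end Cfsg.Agent.S2103P
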