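import Mathlib
import Cfsg.Agent.Helper2.S2103.Defs
import Cfsg.Agent.Helper2.S2103.Gen
import Cfsg.Agent.Helper2.S2400.TabD4

set_option autoImplicit false
set_option linter.unusedSectionVars false
set_option linter.unusedVariables false

/-! S2103: the tables of type `F₄` (Weyl words, cocharacters, embedded subsystems of types `B₂`
and `A₃`) and their checks. -/

namespace Cfsg.Agent.S2103P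

open Cfsg.Lie Cfsg.Agent.Helper6 Cfsg.Agent.Helper2.StPerf Cfsg.Agent.Helper2.Stb
open Cfsg.Agent.Helper2.Stein Cfsg.Agent.Helper2.Stein2 Cfsg.Agent.S2400P

/-- words in the fundamental reflections used for the collection checks -/
def wsF4 : List (List ℕ) :=
    [[], [3, 2, 1, 2, 0, 1, 2, 3, 2, 1, 2, 0, 1, 2, 3, 2, 1, 2, 0, 1, 2, 0, 1, 0], [3, 2, 1, 2, 0,
    1, 2, 0, 1, 0], [1, 2, 0, 1, 2, 3, 2, 1, 2, 0, 1, 2, 3], [3, 1, 2, 0, 1, 2, 3, 0, 1, 0], [3,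
    2, 1, 2, 0, 1, 2, 3, 2, 1, 2, 0, 1, 2], [2, 0, 1, 2, 3, 1, 2, 0], [3, 2, 1, 2, 0, 1, 2, 3, 2,
    1, 2, 0, 1], [2, 0, 1, 2, 3, 2, 1, 2, 1], [0, 1, 2, 3, 0, 1, 2, 1, 0], [2, 3, 1, 2, 0, 1, 2,
    3, 0, 1, 2], [1, 2, 3, 2, 1, 2, 0, 1, 2, 3, 0, 1, 2, 1], [1, 2, 3, 2, 0, 1, 0]]

/-- cocharacters with value `1` on the given root -/
def wAL_F4 : List (List ℤ) :=
    [[0, 0, 0, -1], [0, 0, -1, 0], [0, 0, 1, 0], [-1, 0, 0, 0], [0, 0, -1, 0], [0, 0, 0, -1], [0,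
    0, 0, 1], [0, -1, 0, 0], [0, 0, -1, 0], [0, -1, 0, 0], [0, -1, 0, 0], [-1, 0, 0, 0], [-1, 0,
    0, 0], [-1, 0, 0, 0], [0, 1, 0, 0], [0, 0, -1, 0], [0, 0, 0, -1], [0, 0, 0, 1], [0, 0, 0, -1],
    [0, 0, -1, 0], [0, 0, 1, 0], [0, 0, -1, 0], [0, 0, 0, 1], [0, 0, 1, 0], [0, 0, -1, 0], [0, 0,
    0, -1], [0, 0, 0, 1], [-1, 0, 0, 0], [-1, 0, 0, 0], [-1, 0, 0, 0], [0, 0, 0, -1], [0, 0, -1,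
    0], [0, 0, 1, 0], [0, -1, 0, 0], [0, 0, -1, 0], [0, -1, 0, 0], [0, -1, 0, 0], [0, 0, 0, -1],
    [0, 0, -1, 0], [0, -1, 0, 0], [-1, 0, 0, 0], [0, 0, 0, -1], [0, 0, -1, 0], [0, 0, 1, 0], [1,
    0, 0, 0], [0, 0, -1, 0], [0, 0, 0, -1], [0, 0, 0, 1]]

def wAF4 (r : ℕ) : List ℤ := wAL_F4.getD r []

/-- cocharacters with values `(0, 1)` on the given pair of roots (`(0, 2)` for orthogonal long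
roots, which are not used) -/
def wPC_F4 : List (List ℤ) :=
    [[-1, -2, 0, 0], [-1, -1, -2, 0], [-1, -1, -1, 0], [-1, -1, 0, -1], [-1, -1, 0, 0], [-1, 0,
    -2, 0], [-1, 0, -1, 0], [-1, 0, 0, -2], [-1, 0, 0, -1], [-1, 0, 0, 0], [-1, 0, 0, 1], [-1, 0,
    0, 2], [-1, 0, 1, 0], [-1, 0, 2, 0], [0, -1, -2, -1], [0, -1, -2, 0], [0, -1, -1, -1], [0, -1,
    -1, 0], [0, -1, 0, -2], [0, -1, 0, -1], [0, -1, 0, 0], [0, -1, 0, 1], [0, -1, 0, 2], [0, 0,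
    -2, -1], [0, 0, -1, -2], [0, 0, -1, -1], [0, 0, -1, 0], [0, 0, -1, 1], [0, 0, 0, -1], [0, 0,
    0, 1], [0, 0, 1, -1], [0, 0, 1, 0], [0, 0, 1, 1], [0, 0, 2, 1], [0, 1, 0, -1], [0, 1, 0, 0],
    [0, 1, 0, 1], [0, 1, 0, 2], [0, 1, 1, 0], [0, 1, 1, 1], [0, 1, 2, 0], [0, 1, 2, 1], [1, -1, 0,
    0], [1, 0, -1, 0], [1, 0, 0, -2], [1, 0, 0, -1], [1, 0, 0, 0], [1, 0, 0, 1], [1, 0, 0, 2], [1,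
    0, 2, 0], [1, 1, 0, -1], [1, 1, 0, 0], [1, 1, 0, 1], [1, 1, 1, 0], [1, 1, 2, 0], [1, 2, 0, 0]]

/-- the index in `wPC_F4` of the cocharacter for the pair `(r, s)` -/
def wPL_F4 : List (List ℕ) :=
    [[0, 26, 31, 9, 26, 31, 9, 20, 26, 20, 20, 9, 9, 9, 35, 26, 31, 20, 46, 26, 31, 26, 26, 31,
    26, 20, 31, 9, 9, 9, 9, 26, 31, 20, 26, 20, 20, 35, 26, 20, 9, 46, 26, 31, 46, 26, 31, 0],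
    [25, 0, 32, 9, 25, 9, 32, 20, 35, 20, 20, 9, 9, 9, 35, 25, 20, 32, 46, 46, 46, 35, 25, 25, 32,
    32, 20, 9, 9, 9, 25, 9, 32, 20, 35, 20, 20, 35, 35, 20, 9, 25, 46, 32, 46, 25, 0, 32], [28,
    29, 0, 9, 9, 28, 29, 46, 15, 28, 29, 9, 9, 9, 40, 46, 28, 29, 28, 29, 46, 28, 29, 28, 29, 28,
    29, 9, 9, 9, 28, 29, 9, 15, 46, 28, 29, 28, 29, 40, 9, 28, 29, 46, 46, 0, 28, 29], [28, 26,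
    31, 0, 26, 28, 29, 20, 26, 20, 20, 28, 26, 20, 35, 26, 28, 29, 28, 26, 31, 26, 29, 31, 26, 28,
    29, 26, 28, 29, 28, 26, 31, 20, 26, 20, 20, 28, 26, 20, 35, 28, 26, 31, 0, 26, 28, 29], [28,
    29, 4, 4, 0, 28, 29, 15, 51, 28, 29, 28, 29, 40, 4, 51, 28, 29, 28, 29, 4, 28, 29, 28, 29, 28,
    29, 51, 28, 29, 28, 29, 4, 51, 15, 28, 29, 28, 29, 4, 13, 28, 29, 0, 51, 51, 28, 29], [25, 5,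
    32, 5, 25, 0, 32, 20, 35, 20, 20, 35, 35, 20, 35, 25, 20, 32, 25, 5, 32, 35, 25, 25, 32, 32,
    20, 25, 44, 32, 25, 35, 32, 20, 35, 20, 20, 35, 35, 20, 35, 25, 0, 32, 44, 25, 44, 32], [7,
    26, 31, 7, 26, 31, 0, 20, 26, 20, 20, 35, 26, 20, 35, 26, 31, 20, 7, 26, 31, 26, 26, 31, 26,
    20, 31, 26, 31, 48, 35, 26, 31, 20, 26, 20, 20, 35, 26, 20, 35, 0, 26, 31, 48, 26, 31, 48],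
    [28, 26, 31, 4, 26, 28, 29, 0, 26, 28, 29, 28, 26, 31, 4, 26, 28, 29, 28, 26, 31, 26, 29, 31,
    26, 28, 29, 26, 28, 29, 28, 26, 31, 51, 26, 28, 29, 28, 26, 31, 0, 28, 26, 31, 51, 26, 28,
    29], [28, 29, 17, 9, 38, 28, 29, 46, 0, 28, 29, 9, 9, 9, 38, 17, 28, 29, 28, 29, 46, 28, 29,
    38, 17, 28, 29, 9, 9, 9, 28, 29, 38, 17, 46, 28, 29, 28, 29, 0, 9, 28, 29, 17, 46, 38, 28,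
    29], [25, 17, 17, 9, 25, 34, 21, 46, 25, 0, 17, 9, 9, 9, 34, 17, 17, 32, 46, 46, 46, 38, 25,
    25, 17, 21, 17, 9, 9, 9, 25, 34, 32, 17, 46, 46, 46, 25, 0, 21, 9, 25, 17, 17, 46, 25, 34,
    21], [19, 26, 31, 9, 26, 31, 36, 46, 26, 31, 0, 9, 9, 9, 36, 26, 31, 19, 46, 26, 31, 26, 39,
    31, 26, 16, 31, 9, 9, 9, 36, 26, 31, 19, 26, 31, 46, 0, 26, 31, 9, 19, 26, 31, 46, 26, 31,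
    36], [19, 26, 31, 4, 26, 31, 36, 19, 26, 31, 4, 0, 26, 31, 4, 26, 31, 19, 19, 26, 31, 26, 10,
    31, 26, 45, 31, 26, 31, 4, 10, 26, 31, 19, 26, 31, 0, 45, 26, 31, 10, 19, 26, 31, 45, 26, 31,
    10], [8, 17, 12, 4, 12, 34, 8, 17, 25, 4, 4, 12, 0, 8, 4, 17, 17, 32, 25, 17, 4, 8, 25, 12,
    17, 8, 12, 8, 4, 4, 25, 8, 32, 17, 25, 0, 17, 8, 43, 4, 8, 25, 17, 17, 43, 25, 8, 21], [28,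
    29, 17, 6, 38, 28, 29, 17, 6, 28, 29, 28, 29, 0, 38, 17, 28, 29, 28, 29, 17, 28, 29, 38, 6,
    28, 29, 38, 28, 29, 28, 29, 6, 17, 0, 28, 29, 28, 29, 42, 6, 28, 29, 17, 42, 6, 28, 29], [28,
    26, 31, 0, 26, 28, 29, 0, 26, 28, 29, 28, 26, 31, 0, 26, 28, 29, 28, 26, 31, 26, 29, 31, 26,
    28, 29, 26, 28, 29, 28, 26, 31, 0, 26, 28, 29, 28, 26, 31, 55, 28, 26, 31, 55, 26, 28, 29],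
    [28, 29, 20, 5, 35, 28, 29, 20, 35, 20, 20, 28, 29, 20, 35, 0, 28, 29, 28, 29, 54, 28, 29, 28,
    29, 28, 29, 1, 28, 29, 28, 29, 0, 20, 35, 20, 20, 28, 29, 20, 35, 28, 29, 20, 49, 35, 28, 29],
    [25, 15, 32, 4, 25, 4, 32, 15, 25, 4, 4, 25, 15, 32, 4, 25, 0, 32, 25, 51, 4, 25, 25, 25, 32,
    32, 4, 25, 4, 4, 25, 0, 32, 51, 25, 7, 32, 25, 51, 4, 7, 25, 51, 32, 51, 25, 7, 32], [18, 26,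
    31, 4, 26, 31, 4, 18, 26, 31, 4, 18, 26, 31, 4, 26, 31, 0, 51, 26, 31, 26, 26, 31, 26, 31, 31,
    26, 31, 4, 0, 26, 31, 51, 26, 31, 11, 51, 26, 31, 11, 51, 26, 31, 51, 26, 31, 11], [8, 26, 31,
    8, 26, 31, 8, 20, 26, 20, 20, 35, 26, 20, 35, 26, 31, 52, 0, 26, 31, 26, 47, 31, 26, 8, 31,
    26, 31, 0, 3, 26, 31, 20, 26, 20, 20, 35, 26, 20, 35, 47, 26, 31, 47, 26, 31, 47], [25, 6, 32,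
    6, 25, 6, 32, 20, 35, 20, 20, 35, 35, 20, 35, 25, 50, 32, 25, 0, 32, 6, 10, 25, 6, 32, 10, 10,
    0, 6, 10, 2, 6, 20, 35, 20, 20, 35, 35, 20, 35, 25, 45, 32, 45, 6, 45, 10], [28, 29, 12, 12,
    12, 28, 29, 43, 43, 28, 29, 28, 29, 2, 2, 53, 28, 29, 28, 29, 0, 28, 29, 12, 43, 28, 29, 0,
    28, 29, 28, 29, 2, 15, 15, 28, 29, 28, 29, 12, 12, 28, 29, 43, 43, 43, 28, 29], [30, 27, 30,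
    9, 27, 9, 27, 46, 27, 16, 27, 9, 9, 9, 37, 27, 46, 27, 46, 46, 46, 0, 39, 16, 39, 16, 0, 9, 9,
    9, 30, 9, 30, 15, 46, 46, 46, 30, 15, 30, 9, 30, 46, 30, 46, 27, 30, 27], [24, 17, 17, 9, 38,
    38, 9, 46, 24, 24, 17, 9, 9, 9, 38, 17, 17, 46, 46, 46, 46, 38, 0, 38, 17, 0, 17, 9, 9, 9, 9,
    38, 38, 17, 46, 46, 46, 38, 22, 22, 9, 46, 17, 17, 46, 38, 38, 22], [23, 23, 20, 9, 9, 33, 33,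
    20, 35, 20, 20, 9, 9, 9, 35, 46, 33, 33, 46, 46, 46, 14, 14, 0, 0, 41, 41, 9, 9, 9, 23, 23, 9,
    20, 35, 20, 20, 35, 35, 20, 9, 23, 23, 20, 46, 35, 33, 33], [23, 23, 20, 9, 9, 33, 33, 20, 35,
    20, 20, 9, 9, 9, 35, 46, 33, 33, 46, 46, 46, 14, 14, 0, 0, 41, 41, 9, 9, 9, 23, 23, 9, 20, 35,
    20, 20, 35, 35, 20, 9, 23, 23, 20, 46, 35, 33, 33], [24, 17, 17, 9, 38, 38, 9, 46, 24, 24, 17,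
    9, 9, 9, 38, 17, 17, 46, 46, 46, 46, 38, 0, 38, 17, 0, 17, 9, 9, 9, 9, 38, 38, 17, 46, 46, 46,
    38, 22, 22, 9, 46, 17, 17, 46, 38, 38, 22], [30, 27, 30, 9, 27, 9, 27, 46, 27, 16, 27, 9, 9,
    9, 37, 27, 46, 27, 46, 46, 46, 0, 39, 16, 39, 16, 0, 9, 9, 9, 30, 9, 30, 15, 46, 46, 46, 30,
    15, 30, 9, 30, 46, 30, 46, 27, 30, 27], [28, 29, 12, 12, 12, 28, 29, 43, 43, 28, 29, 28, 29,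
    2, 2, 53, 28, 29, 28, 29, 0, 28, 29, 12, 43, 28, 29, 0, 28, 29, 28, 29, 2, 15, 15, 28, 29, 28,
    29, 12, 12, 28, 29, 43, 43, 43, 28, 29], [25, 6, 32, 6, 25, 6, 32, 20, 35, 20, 20, 35, 35, 20,
    35, 25, 50, 32, 25, 0, 32, 6, 10, 25, 6, 32, 10, 10, 0, 6, 10, 2, 6, 20, 35, 20, 20, 35, 35,
    20, 35, 25, 45, 32, 45, 6, 45, 10], [8, 26, 31, 8, 26, 31, 8, 20, 26, 20, 20, 35, 26, 20, 35,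
    26, 31, 52, 0, 26, 31, 26, 47, 31, 26, 8, 31, 26, 31, 0, 3, 26, 31, 20, 26, 20, 20, 35, 26,
    20, 35, 47, 26, 31, 47, 26, 31, 47], [18, 26, 31, 4, 26, 31, 4, 18, 26, 31, 4, 18, 26, 31, 4,
    26, 31, 0, 51, 26, 31, 26, 26, 31, 26, 31, 31, 26, 31, 4, 0, 26, 31, 51, 26, 31, 11, 51, 26,
    31, 11, 51, 26, 31, 51, 26, 31, 11], [25, 15, 32, 4, 25, 4, 32, 15, 25, 4, 4, 25, 15, 32, 4,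
    25, 0, 32, 25, 51, 4, 25, 25, 25, 32, 32, 4, 25, 4, 4, 25, 0, 32, 51, 25, 7, 32, 25, 51, 4, 7,
    25, 51, 32, 51, 25, 7, 32], [28, 29, 20, 5, 35, 28, 29, 20, 35, 20, 20, 28, 29, 20, 35, 0, 28,
    29, 28, 29, 54, 28, 29, 28, 29, 28, 29, 1, 28, 29, 28, 29, 0, 20, 35, 20, 20, 28, 29, 20, 35,
    28, 29, 20, 49, 35, 28, 29], [28, 26, 31, 0, 26, 28, 29, 0, 26, 28, 29, 28, 26, 31, 0, 26, 28,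
    29, 28, 26, 31, 26, 29, 31, 26, 28, 29, 26, 28, 29, 28, 26, 31, 0, 26, 28, 29, 28, 26, 31, 55,
    28, 26, 31, 55, 26, 28, 29], [28, 29, 17, 6, 38, 28, 29, 17, 6, 28, 29, 28, 29, 0, 38, 17, 28,
    29, 28, 29, 17, 28, 29, 38, 6, 28, 29, 38, 28, 29, 28, 29, 6, 17, 0, 28, 29, 28, 29, 42, 6,
    28, 29, 17, 42, 6, 28, 29], [8, 17, 12, 4, 12, 34, 8, 17, 25, 4, 4, 12, 0, 8, 4, 17, 17, 32,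
    25, 17, 4, 8, 25, 12, 17, 8, 12, 8, 4, 4, 25, 8, 32, 17, 25, 0, 17, 8, 43, 4, 8, 25, 17, 17,
    43, 25, 8, 21], [19, 26, 31, 4, 26, 31, 36, 19, 26, 31, 4, 0, 26, 31, 4, 26, 31, 19, 19, 26,
    31, 26, 10, 31, 26, 45, 31, 26, 31, 4, 10, 26, 31, 19, 26, 31, 0, 45, 26, 31, 10, 19, 26, 31,
    45, 26, 31, 10], [19, 26, 31, 9, 26, 31, 36, 46, 26, 31, 0, 9, 9, 9, 36, 26, 31, 19, 46, 26,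
    31, 26, 39, 31, 26, 16, 31, 9, 9, 9, 36, 26, 31, 19, 26, 31, 46, 0, 26, 31, 9, 19, 26, 31, 46,
    26, 31, 36], [25, 17, 17, 9, 25, 34, 21, 46, 25, 0, 17, 9, 9, 9, 34, 17, 17, 32, 46, 46, 46,
    38, 25, 25, 17, 21, 17, 9, 9, 9, 25, 34, 32, 17, 46, 46, 46, 25, 0, 21, 9, 25, 17, 17, 46, 25,
    34, 21], [28, 29, 17, 9, 38, 28, 29, 46, 0, 28, 29, 9, 9, 9, 38, 17, 28, 29, 28, 29, 46, 28,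
    29, 38, 17, 28, 29, 9, 9, 9, 28, 29, 38, 17, 46, 28, 29, 28, 29, 0, 9, 28, 29, 17, 46, 38, 28,
    29], [28, 26, 31, 4, 26, 28, 29, 0, 26, 28, 29, 28, 26, 31, 4, 26, 28, 29, 28, 26, 31, 26, 29,
    31, 26, 28, 29, 26, 28, 29, 28, 26, 31, 51, 26, 28, 29, 28, 26, 31, 0, 28, 26, 31, 51, 26, 28,
    29], [7, 26, 31, 7, 26, 31, 0, 20, 26, 20, 20, 35, 26, 20, 35, 26, 31, 20, 7, 26, 31, 26, 26,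
    31, 26, 20, 31, 26, 31, 48, 35, 26, 31, 20, 26, 20, 20, 35, 26, 20, 35, 0, 26, 31, 48, 26, 31,
    48], [25, 5, 32, 5, 25, 0, 32, 20, 35, 20, 20, 35, 35, 20, 35, 25, 20, 32, 25, 5, 32, 35, 25,
    25, 32, 32, 20, 25, 44, 32, 25, 35, 32, 20, 35, 20, 20, 35, 35, 20, 35, 25, 0, 32, 44, 25, 44,
    32], [28, 29, 4, 4, 0, 28, 29, 15, 51, 28, 29, 28, 29, 40, 4, 51, 28, 29, 28, 29, 4, 28, 29,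
    28, 29, 28, 29, 51, 28, 29, 28, 29, 4, 51, 15, 28, 29, 28, 29, 4, 13, 28, 29, 0, 51, 51, 28,
    29], [28, 26, 31, 0, 26, 28, 29, 20, 26, 20, 20, 28, 26, 20, 35, 26, 28, 29, 28, 26, 31, 26,
    29, 31, 26, 28, 29, 26, 28, 29, 28, 26, 31, 20, 26, 20, 20, 28, 26, 20, 35, 28, 26, 31, 0, 26,
    28, 29], [28, 29, 0, 9, 9, 28, 29, 46, 15, 28, 29, 9, 9, 9, 40, 46, 28, 29, 28, 29, 46, 28,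
    29, 28, 29, 28, 29, 9, 9, 9, 28, 29, 9, 15, 46, 28, 29, 28, 29, 40, 9, 28, 29, 46, 46, 0, 28,
    29], [25, 0, 32, 9, 25, 9, 32, 20, 35, 20, 20, 9, 9, 9, 35, 25, 20, 32, 46, 46, 46, 35, 25,
    25, 32, 32, 20, 9, 9, 9, 25, 9, 32, 20, 35, 20, 20, 35, 35, 20, 9, 25, 46, 32, 46, 25, 0, 32],
    [0, 26, 31, 9, 26, 31, 9, 20, 26, 20, 20, 9, 9, 9, 35, 26, 31, 20, 46, 26, 31, 26, 26, 31, 26,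
    20, 31, 9, 9, 9, 9, 26, 31, 20, 26, 20, 20, 35, 26, 20, 9, 46, 26, 31, 46, 26, 31, 0]]

def wPF4 (r s : ℕ) : List ℤ := wPC_F4.getD ((wPL_F4.getD r []).getD s 0) []

/-- the nine `A₃`-subsystems of long roots: the root index of `e_i - e_j` at position `4 i + j` -/
def rhoL_F4 : List (List ℕ) :=
    [[0, 0, 1, 2, 47, 0, 24, 26, 46, 23, 0, 25, 45, 21, 22, 0], [0, 0, 1, 4, 47, 0, 24, 31, 46,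
    23, 0, 30, 43, 16, 17, 0], [0, 0, 1, 15, 47, 0, 24, 42, 46, 23, 0, 41, 32, 5, 6, 0], [0, 0, 2,
    5, 47, 0, 26, 32, 45, 21, 0, 30, 42, 15, 17, 0], [0, 0, 2, 16, 47, 0, 26, 43, 45, 21, 0, 41,
    31, 4, 6, 0], [0, 0, 4, 5, 47, 0, 31, 32, 43, 16, 0, 25, 42, 15, 22, 0], [0, 1, 2, 6, 46, 0,
    25, 32, 45, 22, 0, 31, 41, 15, 16, 0], [0, 1, 2, 17, 46, 0, 25, 43, 45, 22, 0, 42, 30, 4, 5,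
    0], [0, 1, 4, 6, 46, 0, 30, 32, 43, 17, 0, 26, 41, 15, 21, 0]]

/-- the signs of the root elements of the nine `A₃`-subsystems -/
def epsL_F4 : List (List ℤ) :=
    [[1, 1, 1, 1, 1, 1, 1, 1, 1, 1, 1, 1, 1, 1, 1, 1], [1, 1, 1, 1, 1, 1, 1, -1, 1, 1, 1, -1, 1,
    -1, -1, 1], [1, 1, 1, 1, 1, 1, 1, -1, 1, 1, 1, -1, 1, -1, -1, 1], [1, 1, 1, 1, 1, 1, 1, 1, 1,
    1, 1, -1, 1, 1, -1, 1], [1, 1, 1, 1, 1, 1, 1, 1, 1, 1, 1, -1, 1, 1, -1, 1], [1, 1, 1, 1, 1, 1,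
    -1, 1, 1, -1, 1, 1, 1, 1, 1, 1], [1, 1, 1, 1, 1, 1, 1, 1, 1, 1, 1, 1, 1, 1, 1, 1], [1, 1, 1,
    1, 1, 1, 1, 1, 1, 1, 1, 1, 1, 1, 1, 1], [1, 1, 1, 1, 1, 1, -1, 1, 1, -1, 1, -1, 1, 1, -1, 1]]

/-- for orthogonal long roots `r`, `s`: a subsystem `e` and indices with `r = e_i - e_j`,
`s = e_k - e_l`, packed as `256 e + 64 i + 16 j + 4 k + l` (and `0` for all other pairs) -/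
def witL_F4 : List (List ℕ) :=
    [[0, 0, 0, 0, 0, 0, 542, 0, 0, 0, 0, 0, 0, 0, 0, 0, 0, 286, 0, 0, 0, 0, 30, 0, 0, 27, 0, 0, 0,
    0, 283, 0, 0, 0, 0, 0, 0, 0, 0, 0, 0, 539, 0, 0, 0, 0, 0, 0], [0, 0, 0, 0, 0, 557, 0, 0, 0, 0,
    0, 0, 0, 0, 0, 0, 301, 0, 0, 0, 0, 45, 0, 0, 0, 0, 39, 0, 0, 0, 0, 295, 0, 0, 0, 0, 0, 0, 0,
    0, 0, 0, 551, 0, 0, 0, 0, 0], [0, 0, 0, 0, 1069, 0, 0, 0, 0, 0, 0, 0, 0, 0, 0, 813, 0, 0, 0,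
    0, 0, 0, 0, 57, 54, 0, 0, 0, 0, 0, 0, 0, 807, 0, 0, 0, 0, 0, 0, 0, 0, 0, 0, 1063, 0, 0, 0, 0],
    [0, 0, 0, 0, 0, 0, 0, 0, 0, 0, 0, 0, 0, 0, 0, 0, 0, 0, 0, 0, 0, 0, 0, 0, 0, 0, 0, 0, 0, 0, 0,
    0, 0, 0, 0, 0, 0, 0, 0, 0, 0, 0, 0, 0, 0, 0, 0, 0], [0, 0, 1234, 0, 0, 0, 0, 0, 0, 0, 0, 0, 0,
    0, 0, 1325, 0, 0, 0, 0, 0, 0, 0, 313, 310, 0, 0, 0, 0, 0, 0, 0, 1319, 0, 0, 0, 0, 0, 0, 0, 0,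
    0, 0, 0, 0, 1240, 0, 0], [0, 722, 0, 0, 0, 0, 0, 0, 0, 0, 0, 0, 0, 0, 0, 0, 1337, 0, 0, 0, 0,
    825, 0, 0, 0, 0, 822, 0, 0, 0, 0, 1334, 0, 0, 0, 0, 0, 0, 0, 0, 0, 0, 0, 0, 0, 0, 728, 0],
    [737, 0, 0, 0, 0, 0, 0, 0, 0, 0, 0, 0, 0, 0, 0, 0, 0, 2105, 0, 0, 0, 0, 1593, 0, 0, 1590, 0,
    0, 0, 0, 2102, 0, 0, 0, 0, 0, 0, 0, 0, 0, 0, 0, 0, 0, 0, 0, 0, 740], [0, 0, 0, 0, 0, 0, 0, 0,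
    0, 0, 0, 0, 0, 0, 0, 0, 0, 0, 0, 0, 0, 0, 0, 0, 0, 0, 0, 0, 0, 0, 0, 0, 0, 0, 0, 0, 0, 0, 0,
    0, 0, 0, 0, 0, 0, 0, 0, 0], [0, 0, 0, 0, 0, 0, 0, 0, 0, 0, 0, 0, 0, 0, 0, 0, 0, 0, 0, 0, 0, 0,
    0, 0, 0, 0, 0, 0, 0, 0, 0, 0, 0, 0, 0, 0, 0, 0, 0, 0, 0, 0, 0, 0, 0, 0, 0, 0], [0, 0, 0, 0, 0,
    0, 0, 0, 0, 0, 0, 0, 0, 0, 0, 0, 0, 0, 0, 0, 0, 0, 0, 0, 0, 0, 0, 0, 0, 0, 0, 0, 0, 0, 0, 0,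
    0, 0, 0, 0, 0, 0, 0, 0, 0, 0, 0, 0], [0, 0, 0, 0, 0, 0, 0, 0, 0, 0, 0, 0, 0, 0, 0, 0, 0, 0, 0,
    0, 0, 0, 0, 0, 0, 0, 0, 0, 0, 0, 0, 0, 0, 0, 0, 0, 0, 0, 0, 0, 0, 0, 0, 0, 0, 0, 0, 0], [0, 0,
    0, 0, 0, 0, 0, 0, 0, 0, 0, 0, 0, 0, 0, 0, 0, 0, 0, 0, 0, 0, 0, 0, 0, 0, 0, 0, 0, 0, 0, 0, 0,
    0, 0, 0, 0, 0, 0, 0, 0, 0, 0, 0, 0, 0, 0, 0], [0, 0, 0, 0, 0, 0, 0, 0, 0, 0, 0, 0, 0, 0, 0, 0,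
    0, 0, 0, 0, 0, 0, 0, 0, 0, 0, 0, 0, 0, 0, 0, 0, 0, 0, 0, 0, 0, 0, 0, 0, 0, 0, 0, 0, 0, 0, 0,
    0], [0, 0, 0, 0, 0, 0, 0, 0, 0, 0, 0, 0, 0, 0, 0, 0, 0, 0, 0, 0, 0, 0, 0, 0, 0, 0, 0, 0, 0, 0,
    0, 0, 0, 0, 0, 0, 0, 0, 0, 0, 0, 0, 0, 0, 0, 0, 0, 0], [0, 0, 0, 0, 0, 0, 0, 0, 0, 0, 0, 0, 0,
    0, 0, 0, 0, 0, 0, 0, 0, 0, 0, 0, 0, 0, 0, 0, 0, 0, 0, 0, 0, 0, 0, 0, 0, 0, 0, 0, 0, 0, 0, 0,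
    0, 0, 0, 0], [0, 0, 978, 0, 1490, 0, 0, 0, 0, 0, 0, 0, 0, 0, 0, 0, 0, 0, 0, 0, 0, 0, 0, 569,
    566, 0, 0, 0, 0, 0, 0, 0, 0, 0, 0, 0, 0, 0, 0, 0, 0, 0, 0, 1496, 0, 984, 0, 0], [0, 466, 0, 0,
    0, 1427, 0, 0, 0, 0, 0, 0, 0, 0, 0, 0, 0, 0, 0, 0, 0, 1081, 0, 0, 0, 0, 1078, 0, 0, 0, 0, 0,
    0, 0, 0, 0, 0, 0, 0, 0, 0, 0, 1436, 0, 0, 0, 472, 0], [481, 0, 0, 0, 0, 0, 2195, 0, 0, 0, 0,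
    0, 0, 0, 0, 0, 0, 0, 0, 0, 0, 0, 1849, 0, 0, 1846, 0, 0, 0, 0, 0, 0, 0, 0, 0, 0, 0, 0, 0, 0,
    0, 2204, 0, 0, 0, 0, 0, 484], [0, 0, 0, 0, 0, 0, 0, 0, 0, 0, 0, 0, 0, 0, 0, 0, 0, 0, 0, 0, 0,
    0, 0, 0, 0, 0, 0, 0, 0, 0, 0, 0, 0, 0, 0, 0, 0, 0, 0, 0, 0, 0, 0, 0, 0, 0, 0, 0], [0, 0, 0, 0,
    0, 0, 0, 0, 0, 0, 0, 0, 0, 0, 0, 0, 0, 0, 0, 0, 0, 0, 0, 0, 0, 0, 0, 0, 0, 0, 0, 0, 0, 0, 0,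
    0, 0, 0, 0, 0, 0, 0, 0, 0, 0, 0, 0, 0], [0, 0, 0, 0, 0, 0, 0, 0, 0, 0, 0, 0, 0, 0, 0, 0, 0, 0,
    0, 0, 0, 0, 0, 0, 0, 0, 0, 0, 0, 0, 0, 0, 0, 0, 0, 0, 0, 0, 0, 0, 0, 0, 0, 0, 0, 0, 0, 0], [0,
    210, 0, 0, 0, 915, 0, 0, 0, 0, 0, 0, 0, 0, 0, 0, 1171, 0, 0, 0, 0, 0, 0, 0, 0, 0, 0, 0, 0, 0,
    0, 1180, 0, 0, 0, 0, 0, 0, 0, 0, 0, 0, 924, 0, 0, 0, 216, 0], [225, 0, 0, 0, 0, 0, 1683, 0, 0,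
    0, 0, 0, 0, 0, 0, 0, 0, 1939, 0, 0, 0, 0, 0, 0, 0, 0, 0, 0, 0, 0, 1948, 0, 0, 0, 0, 0, 0, 0,
    0, 0, 0, 1692, 0, 0, 0, 0, 0, 228], [0, 0, 147, 0, 403, 0, 0, 0, 0, 0, 0, 0, 0, 0, 0, 659, 0,
    0, 0, 0, 0, 0, 0, 0, 0, 0, 0, 0, 0, 0, 0, 0, 668, 0, 0, 0, 0, 0, 0, 0, 0, 0, 0, 412, 0, 156,
    0, 0], [0, 0, 99, 0, 355, 0, 0, 0, 0, 0, 0, 0, 0, 0, 0, 611, 0, 0, 0, 0, 0, 0, 0, 0, 0, 0, 0,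
    0, 0, 0, 0, 0, 620, 0, 0, 0, 0, 0, 0, 0, 0, 0, 0, 364, 0, 108, 0, 0], [177, 0, 0, 0, 0, 0,
    1635, 0, 0, 0, 0, 0, 0, 0, 0, 0, 0, 1891, 0, 0, 0, 0, 0, 0, 0, 0, 0, 0, 0, 0, 1900, 0, 0, 0,
    0, 0, 0, 0, 0, 0, 0, 1644, 0, 0, 0, 0, 0, 180], [0, 114, 0, 0, 0, 867, 0, 0, 0, 0, 0, 0, 0, 0,
    0, 0, 1123, 0, 0, 0, 0, 0, 0, 0, 0, 0, 0, 0, 0, 0, 0, 1132, 0, 0, 0, 0, 0, 0, 0, 0, 0, 0, 876,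
    0, 0, 0, 120, 0], [0, 0, 0, 0, 0, 0, 0, 0, 0, 0, 0, 0, 0, 0, 0, 0, 0, 0, 0, 0, 0, 0, 0, 0, 0,
    0, 0, 0, 0, 0, 0, 0, 0, 0, 0, 0, 0, 0, 0, 0, 0, 0, 0, 0, 0, 0, 0, 0], [0, 0, 0, 0, 0, 0, 0, 0,
    0, 0, 0, 0, 0, 0, 0, 0, 0, 0, 0, 0, 0, 0, 0, 0, 0, 0, 0, 0, 0, 0, 0, 0, 0, 0, 0, 0, 0, 0, 0,
    0, 0, 0, 0, 0, 0, 0, 0, 0], [0, 0, 0, 0, 0, 0, 0, 0, 0, 0, 0, 0, 0, 0, 0, 0, 0, 0, 0, 0, 0, 0,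
    0, 0, 0, 0, 0, 0, 0, 0, 0, 0, 0, 0, 0, 0, 0, 0, 0, 0, 0, 0, 0, 0, 0, 0, 0, 0], [433, 0, 0, 0,
    0, 0, 2147, 0, 0, 0, 0, 0, 0, 0, 0, 0, 0, 0, 0, 0, 0, 0, 1993, 0, 0, 1990, 0, 0, 0, 0, 0, 0,
    0, 0, 0, 0, 0, 0, 0, 0, 0, 2156, 0, 0, 0, 0, 0, 436], [0, 370, 0, 0, 0, 1379, 0, 0, 0, 0, 0,
    0, 0, 0, 0, 0, 0, 0, 0, 0, 0, 1225, 0, 0, 0, 0, 1222, 0, 0, 0, 0, 0, 0, 0, 0, 0, 0, 0, 0, 0,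
    0, 0, 1388, 0, 0, 0, 376, 0], [0, 0, 882, 0, 1394, 0, 0, 0, 0, 0, 0, 0, 0, 0, 0, 0, 0, 0, 0,
    0, 0, 0, 0, 713, 710, 0, 0, 0, 0, 0, 0, 0, 0, 0, 0, 0, 0, 0, 0, 0, 0, 0, 0, 1400, 0, 888, 0,
    0], [0, 0, 0, 0, 0, 0, 0, 0, 0, 0, 0, 0, 0, 0, 0, 0, 0, 0, 0, 0, 0, 0, 0, 0, 0, 0, 0, 0, 0, 0,
    0, 0, 0, 0, 0, 0, 0, 0, 0, 0, 0, 0, 0, 0, 0, 0, 0, 0], [0, 0, 0, 0, 0, 0, 0, 0, 0, 0, 0, 0, 0,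
    0, 0, 0, 0, 0, 0, 0, 0, 0, 0, 0, 0, 0, 0, 0, 0, 0, 0, 0, 0, 0, 0, 0, 0, 0, 0, 0, 0, 0, 0, 0,
    0, 0, 0, 0], [0, 0, 0, 0, 0, 0, 0, 0, 0, 0, 0, 0, 0, 0, 0, 0, 0, 0, 0, 0, 0, 0, 0, 0, 0, 0, 0,
    0, 0, 0, 0, 0, 0, 0, 0, 0, 0, 0, 0, 0, 0, 0, 0, 0, 0, 0, 0, 0], [0, 0, 0, 0, 0, 0, 0, 0, 0, 0,
    0, 0, 0, 0, 0, 0, 0, 0, 0, 0, 0, 0, 0, 0, 0, 0, 0, 0, 0, 0, 0, 0, 0, 0, 0, 0, 0, 0, 0, 0, 0,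
    0, 0, 0, 0, 0, 0, 0], [0, 0, 0, 0, 0, 0, 0, 0, 0, 0, 0, 0, 0, 0, 0, 0, 0, 0, 0, 0, 0, 0, 0, 0,
    0, 0, 0, 0, 0, 0, 0, 0, 0, 0, 0, 0, 0, 0, 0, 0, 0, 0, 0, 0, 0, 0, 0, 0], [0, 0, 0, 0, 0, 0, 0,
    0, 0, 0, 0, 0, 0, 0, 0, 0, 0, 0, 0, 0, 0, 0, 0, 0, 0, 0, 0, 0, 0, 0, 0, 0, 0, 0, 0, 0, 0, 0,
    0, 0, 0, 0, 0, 0, 0, 0, 0, 0], [0, 0, 0, 0, 0, 0, 0, 0, 0, 0, 0, 0, 0, 0, 0, 0, 0, 0, 0, 0, 0,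
    0, 0, 0, 0, 0, 0, 0, 0, 0, 0, 0, 0, 0, 0, 0, 0, 0, 0, 0, 0, 0, 0, 0, 0, 0, 0, 0], [0, 0, 0, 0,
    0, 0, 0, 0, 0, 0, 0, 0, 0, 0, 0, 0, 0, 0, 0, 0, 0, 0, 0, 0, 0, 0, 0, 0, 0, 0, 0, 0, 0, 0, 0,
    0, 0, 0, 0, 0, 0, 0, 0, 0, 0, 0, 0, 0], [689, 0, 0, 0, 0, 0, 0, 0, 0, 0, 0, 0, 0, 0, 0, 0, 0,
    2249, 0, 0, 0, 0, 1737, 0, 0, 1734, 0, 0, 0, 0, 2246, 0, 0, 0, 0, 0, 0, 0, 0, 0, 0, 0, 0, 0,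
    0, 0, 0, 692], [0, 626, 0, 0, 0, 0, 0, 0, 0, 0, 0, 0, 0, 0, 0, 0, 1481, 0, 0, 0, 0, 969, 0, 0,
    0, 0, 966, 0, 0, 0, 0, 1478, 0, 0, 0, 0, 0, 0, 0, 0, 0, 0, 0, 0, 0, 0, 632, 0], [0, 0, 1138,
    0, 0, 0, 0, 0, 0, 0, 0, 0, 0, 0, 0, 1421, 0, 0, 0, 0, 0, 0, 0, 457, 454, 0, 0, 0, 0, 0, 0, 0,
    1415, 0, 0, 0, 0, 0, 0, 0, 0, 0, 0, 0, 0, 1144, 0, 0], [0, 0, 0, 0, 0, 0, 0, 0, 0, 0, 0, 0, 0,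
    0, 0, 0, 0, 0, 0, 0, 0, 0, 0, 0, 0, 0, 0, 0, 0, 0, 0, 0, 0, 0, 0, 0, 0, 0, 0, 0, 0, 0, 0, 0,
    0, 0, 0, 0], [0, 0, 0, 0, 1165, 0, 0, 0, 0, 0, 0, 0, 0, 0, 0, 909, 0, 0, 0, 0, 0, 0, 0, 201,
    198, 0, 0, 0, 0, 0, 0, 0, 903, 0, 0, 0, 0, 0, 0, 0, 0, 0, 0, 1159, 0, 0, 0, 0], [0, 0, 0, 0,
    0, 653, 0, 0, 0, 0, 0, 0, 0, 0, 0, 0, 397, 0, 0, 0, 0, 141, 0, 0, 0, 0, 135, 0, 0, 0, 0, 391,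
    0, 0, 0, 0, 0, 0, 0, 0, 0, 0, 647, 0, 0, 0, 0, 0], [0, 0, 0, 0, 0, 0, 590, 0, 0, 0, 0, 0, 0,
    0, 0, 0, 0, 334, 0, 0, 0, 0, 78, 0, 0, 75, 0, 0, 0, 0, 331, 0, 0, 0, 0, 0, 0, 0, 0, 0, 0, 587,
    0, 0, 0, 0, 0, 0]]

def rhoA_F4 (e : ℕ) (i j : Fin 4) : ℕ := (rhoL_F4.getD e []).getD (4 * i.val + j.val) 0

def epsA_F4 (e : ℕ) (i j : Fin 4) : ℤ := (epsL_F4.getD e []).getD (4 * i.val + j.val) 1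

def witF4 (r s : ℕ) : ℕ := (witL_F4.getD r []).getD s 0

/-- the pairs of orthogonal long roots -/
def badF4 (r s : ℕ) : Bool := witF4 r s != 0

/-- six `B₂`-subsystems covering all roots -/
def rhoBL_F4 : List (List ℕ) :=
    [[47, 29, 44, 6, 41, 3, 18, 0], [46, 35, 40, 16, 31, 7, 12, 1], [43, 33, 39, 15, 32, 8, 14,
    4], [45, 37, 38, 23, 24, 9, 10, 2], [42, 34, 36, 21, 26, 11, 13, 5], [30, 27, 28, 22, 25, 19,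
    20, 17]]

def epsBL_F4 : List (List ℤ) :=
    [[1, 1, 1, 1, 1, 1, 1, 1], [1, 1, 1, 1, 1, 1, 1, 1], [1, 1, 1, -1, -1, 1, 1, 1], [1, 1, -1, 1,
    1, -1, 1, 1], [1, 1, -1, 1, 1, -1, 1, 1], [1, 1, 1, -1, -1, 1, 1, 1]]

def rhoB_F4 (k a : ℕ) : ℕ := (rhoBL_F4.getD k []).getD a 0

def epsB_F4 (k a : ℕ) : ℤ := (epsBL_F4.getD k []).getD a 1

/-- the subsystem of type `B₂` containing the root `r`, and the index of `r` in it -/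
def bkF4 (r : ℕ) : ℕ := ([0, 1, 3, 0, 2, 4, 0, 1, 2, 3, 3, 4, 1, 4, 2, 2, 1, 5, 0, 5, 5, 4, 5, 3, 3, 5, 4, 5, 5, 0, 5, 1, 2, 2, 4, 1, 4, 3, 3, 2, 1, 0, 4, 2, 0, 3, 1, 0] : List ℕ).getD r 0

def baF4 (r : ℕ) : ℕ := ([7, 7, 7, 5, 7, 7, 3, 5, 5, 5, 6, 5, 6, 6, 6, 3, 3, 7, 6, 5, 6, 3, 3, 3, 4, 4, 4, 1, 2, 1, 0, 4, 4, 1, 1, 1, 2, 1, 2, 2, 2, 4, 0, 0, 2, 0, 0, 0] : List ℕ).getD r 0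

set_option maxRecDepth 1000000 in
theorem witAChk_F4 : witAChk chevF4 wAF4 = true := by decide +kernel

set_option maxRecDepth 1000000 in
theorem witP1Chk_F4 : witP1Chk chevF4 wPF4 badF4 = true := by decide +kernel

set_option maxRecDepth 1000000 in
theorem pairsChk_F4 : pairsChk chevF4 wsF4 = true := by decide +kernel

set_option maxRecDepth 1000000 in
theorem embChkB_F4 : ∀ k < 6, embChk chevB2 chevF4 (rhoB_F4 k) (epsB_F4 k) = true := by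
  decide +kernel

set_option maxRecDepth 1000000 in
theorem coverB_F4 : ∀ r < 48, bkF4 r < 6 ∧ baF4 r < 8 ∧ rhoB_F4 (bkF4 r) (baF4 r) = r := by
  decide +kernel

set_option maxRecDepth 1000000 in
theorem embOK_F4 : ∀ e < 9, EmbOK 48 ceF4 ngF4 (rhoA_F4 e) (epsA_F4 e) := by
  decide +kernel

/-- the packed witness `x` proves that `r`, `s` lie in a common `A₃`-subsystem -/
def CovPF (r s x : ℕ) : Prop :=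
  x / 256 < 9 ∧ Dist4 (fi (x / 64)) (fi (x / 16)) (fi (x / 4)) (fi x) ∧
    rhoA_F4 (x / 256) (fi (x / 64)) (fi (x / 16)) = r ∧ rhoA_F4 (x / 256) (fi (x / 4)) (fi x) = s

instance (r s x : ℕ) : Decidable (CovPF r s x) := by unfold CovPF; infer_instance

set_option maxRecDepth 1000000 in
theorem coverA_F4 : ∀ r < 48, ∀ s < 48, badF4 r s = true → CovPF r s (witF4 r s) := by
  decide +kernel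

end Cfsg.Agent.S2103P
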