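import Mathlib
import Cfsg.Agent.Helper2.S2103.TabF4
import Cfsg.Agent.Helper26.S2103EMB
import Cfsg.Agent.Helper26.S2103B2SELF
import Cfsg.Agent.Helper2.S2103.LONG
import Cfsg.Agent.Helper21.S2400A3EMB

set_option autoImplicit false
set_option linter.unusedSectionVars false
set_option linter.unusedVariables false

/-! S2103, type `F₄`, `|K| ≥ 3`: every central extension of the group presented by (R1), (R2)
splits, and homomorphisms from it lift through central extensions. -/

namespace Cfsg.Agent.S2103P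

open Cfsg.Lie Cfsg.Agent.Helper6 Cfsg.Agent.Helper2.StPerf Cfsg.Agent.Helper2.Stb
open Cfsg.Agent.Helper2.Stein Cfsg.Agent.Helper2.Stein2 Cfsg.Agent.S2400P
open scoped commutatorElement

theorem isTab_F4' : IsTabulated chevF4 := by simp [IsTabulated]

theorem exists_ne_zero_one {K : Type*} [Field K] [Fintype K] (hK : 3 ≤ Fintype.card K) :
    ∃ x : K, x ≠ 0 ∧ x ≠ 1 := by
  classical
  by_contra hcon
  push Not at hcon
  have hsub : (Finset.univ : Finset K) ⊆ {0, 1} := by
    intro v _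
    by_cases hv : v = 0
    · simp [hv]
    · simp [hcon v hv]
  have := Finset.card_le_card hsub
  have h2 : ({0, 1} : Finset K).card ≤ 2 := Finset.card_le_two
  rw [Finset.card_univ] at this
  omega

/-- type `F₄`, `|K| ≥ 3`: every central extension of the group presented by (R1), (R2) splits -/
theorem split_F4 {K : Type*} [Field K] [Fintype K] (hK : 3 ≤ Fintype.card K) {E : Type*}
    [Group E] (ψ : E →* chevF4.SteinbergCover K) (hψ : Function.Surjective ψ)
    (hc : ψ.ker ≤ Subgroup.center E) :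
    ∃ σ : chevF4.SteinbergCover K →* E, ψ.comp σ = MonoidHom.id _ := by
  obtain ⟨v₀, hv0, hv1⟩ := exists_ne_zero_one hK
  have hsub : chevF4.steinbergRelsAB K ⊆ chevF4.steinbergRelsAB K := subset_rfl
  have h : R12 chevF4 (pX chevF4 (chevF4.steinbergRelsAB K)) := r12_pX hsub
  refine exists_section_gen hv0 hv1 isTab_F4' witAChk_F4 witP1Chk_F4 pairsChk_F4 ψ hψ hc ?_ ?_
  · intro r hr t u e1 e2 h1 h2
    obtain ⟨hk, ha, hρ⟩ := coverB_F4 r hr
    rw [← hρ] at h1 h2
    exact lifts_commute_self_of_embB2 hK h ψ hψ hc (embChkB_F4 _ hk) ha t u e1 e2 h1 h2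
  · intro r hr s hs hb hnil t u e1 e2 h1 h2
    obtain ⟨he, ⟨hij, hkl, hik, hil, hjk, hjl⟩, hr', hs'⟩ := coverA_F4 r hr s hs hb
    rw [← hr'] at h1
    rw [← hs'] at h2
    exact lifts_commute_of_emb hK (n := 48) h.add (fun hc => hcm_F4 h hc)
      (fun hs => hsm_F4 h hs) ψ hψ hc (embOK_F4 _ he) hij hkl hik hil hjk hjl h1 h2

/-- homomorphisms from a group all of whose central extensions split lift through central
extensions -/
theorem exists_lift_of_splits {M G Γ : Type*} [Group M] [Group G] [Group Γ]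
    (hsplit : ∀ (P : Subgroup (Γ × M)) (ψ : ↥P →* M), Function.Surjective ψ →
      ψ.ker ≤ Subgroup.center ↥P → ∃ s : M →* ↥P, ψ.comp s = MonoidHom.id _)
    (σ : Γ →* G) (hσ : Function.Surjective σ) (hc : σ.ker ≤ Subgroup.center Γ) (θ : M →* G) :
    ∃ τ : M →* Γ, σ.comp τ = θ := by
  obtain ⟨P, hPdef⟩ : ∃ P : Subgroup (Γ × M),
      P = (σ.comp (MonoidHom.fst Γ M)).eqLocus (θ.comp (MonoidHom.snd Γ M)) := ⟨_, rfl⟩
  have hPmem : ∀ p : Γ × M, p ∈ P ↔ σ p.1 = θ p.2 := by
    intro p; rw [hPdef]; rfl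
  obtain ⟨ψ, hψdef⟩ : ∃ ψ : ↥P →* M, ψ = (MonoidHom.snd Γ M).comp P.subtype := ⟨_, rfl⟩
  have hψa : ∀ p : ↥P, ψ p = p.1.2 := by intro p; rw [hψdef]; rfl
  have hψs : Function.Surjective ψ := by
    intro x
    obtain ⟨e, he⟩ := hσ (θ x)
    exact ⟨⟨(e, x), (hPmem _).2 he⟩, by rw [hψa]⟩
  have hψc : ψ.ker ≤ Subgroup.center ↥P := by
    intro p hp
    rw [MonoidHom.mem_ker, hψa] at hp
    have hp1 : σ p.1.1 = 1 := by rw [(hPmem _).1 p.2, hp, map_one]
    have hcen := Subgroup.mem_center_iff.1 (hc (MonoidHom.mem_ker.2 hp1))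
    rw [Subgroup.mem_center_iff]
    intro q
    apply Subtype.ext
    apply Prod.ext
    · exact hcen q.1.1
    · show q.1.2 * p.1.2 = p.1.2 * q.1.2
      rw [hp, mul_one, one_mul]
  obtain ⟨s, hs⟩ := hsplit P ψ hψs hψc
  have hs' : ∀ x, (s x).1.2 = x := by
    intro x
    have := congrArg (fun f => f x) hs
    simp only [MonoidHom.comp_apply, MonoidHom.id_apply] at this
    rw [hψa] at this
    exact this
  refine ⟨(MonoidHom.fst Γ M).comp (P.subtype.comp s), ?_⟩
  apply MonoidHom.ext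
  intro x
  show σ (s x).1.1 = θ x
  rw [(hPmem _).1 (s x).2, hs']

/-- type `F₄`, `|K| ≥ 3`: homomorphisms from the group presented by (R1), (R2) lift through
central extensions -/
theorem exists_lift_F4 {K : Type*} [Field K] [Fintype K] (hK : 3 ≤ Fintype.card K)
    {G Γ : Type*} [Group G] [Group Γ] (σ : Γ →* G) (hσ : Function.Surjective σ)
    (hc : σ.ker ≤ Subgroup.center Γ) (θ : chevF4.SteinbergCover K →* G) :
    ∃ τ : chevF4.SteinbergCover K →* Γ, σ.comp τ = θ :=
  exists_lift_of_splits (fun P ψ hψ hψc => split_F4 hK ψ hψ hψc) σ hσ hc θ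

end Cfsg.Agent.S2103P
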